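import Groth.Prelude.Def_ega3
import Groth.Agent.CohCmpLib.Hm
import Groth.Agent.FlatCxLib.Homology
import Groth.Agent.FlatCxLib.BaseChange
import Groth.Agent.DRingLib.PCohTop
import Groth.Agent.TwoTermLib.HomCx
import Mathlib.Algebra.Homology.Embedding.CochainComplex
import Mathlib.RingTheory.Flat.Localization

/-! Truncating a universal complex to an amplitude interval. -/

set_option autoImplicit false
universe u

open CategoryTheory CategoryTheory.Limits TensorProduct
open FlatCxLib (Hm)
attribute [local instance] HasDerivedCategory.standard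

namespace AmpTruncLib

variable {A : Type u} [CommRing A] (P : CochainComplex (ModuleCat.{u} A) ℤ)

/-- incoming differential -/
noncomputable abbrev dI (i : ℤ) : P.X (i - 1) →ₗ[A] P.X i := (P.d (i - 1) i).hom

/-- outgoing differential -/
noncomputable abbrev dO (i : ℤ) : P.X i →ₗ[A] P.X (i + 1) := (P.d i (i + 1)).hom

theorem dO_dI (i : ℤ) : dO P i ∘ₗ dI P i = 0 := by
  rw [← ModuleCat.hom_comp, P.d_comp_d]; rfl

/-- homology -/
noncomputable def hEquiv (i : ℤ) : Hm (dI P i) (dO P i) ≃ₗ[A] (P.homology i : Type u) :=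
  FlatCxLib.homologyEquiv P i (i + 1) (by simp) (i - 1) (by simp)

theorem subsingleton_hm_bc (B : Type u) [CommRing B] [Algebra A B] (i : ℤ)
    (h : IsZero ((CohIII.bcCx (algebraMap A B) P).homology i)) :
    Subsingleton (Hm ((dI P i).baseChange B) ((dO P i).baseChange B)) := by
  haveI := ModuleCat.subsingleton_of_isZero h
  let D := CohIII.bcCx (algebraMap A B) P
  let e1 : Hm (dI D i) (dO D i) ≃ₗ[B] Hm ((dI P i).baseChange B) ((dO P i).baseChange B) :=
    FlatCxLib.hmCongr (FlatCxLib.extEquiv (B := B) (P.X _)) (FlatCxLib.extEquiv (B := B) (P.X i))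
      (FlatCxLib.extEquiv (B := B) (P.X (i + 1))) (FlatCxLib.extEquiv_map (P.d _ i))
      (FlatCxLib.extEquiv_map (P.d i (i + 1)))
  haveI : Subsingleton (Hm (dI D i) (dO D i)) := (hEquiv D i).toEquiv.subsingleton
  exact e1.symm.toEquiv.subsingleton

variable [IsNoetherianRing A] (hP : ∀ i, Module.Finite A (P.X i) ∧ Module.Free A (P.X i))

include hP in
theorem projective_coker_succ (p : ℤ)
    (h : ∀ q : PrimeSpectrum A, IsZero ((CohIII.bcCx (algebraMap A q.asIdeal.ResidueField) P).homology p)) :
    Module.Projective A ((P.X (p + 1) : Type u) ⧸ LinearMap.range (dO P p)) := by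
  haveI := (hP p).1
  haveI := (hP (p + 1)).1
  haveI := (hP (p + 1)).2
  let W := (P.X (p + 1) : Type u) ⧸ LinearMap.range (dO P p)
  haveI : Module.FinitePresentation A W := Module.finitePresentation_of_finite A W
  haveI : Module.Flat A W := by
    refine Module.flat_of_isLocalized_maximal A W (fun q => Localization.AtPrime q ⊗[A] W)
      (fun q _ => TensorProduct.mk A (Localization.AtPrime q) W 1) fun q hq => ?_
    haveI := subsingleton_hm_bc P q.ResidueField p (h ⟨q, inferInstance⟩)
    haveI := CohCmpLib.free_localization_of_surjective (dI P p) (dO P p) (dO_dI P p) ⟨q, inferInstance⟩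
      (fun x => ⟨0, Subsingleton.elim _ _⟩)
    haveI : Module.Flat A (Localization.AtPrime q) := IsLocalization.flat _ q.primeCompl
    exact Module.Flat.trans A (Localization.AtPrime q) _
  exact Module.Flat.projective_of_finitePresentation

include hP in
theorem isZero_homology_of_fibres (p : ℤ)
    (h : ∀ q : PrimeSpectrum A, IsZero ((CohIII.bcCx (algebraMap A q.asIdeal.ResidueField) P).homology p)) :
    IsZero (P.homology p) := by
  haveI := (hP p).1
  haveI : Module.Finite A (P.X (p + 1)) := (hP (p + 1)).1
  haveI := (hP (p + 1)).2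
  haveI := projective_coker_succ P hP p h
  haveI : Module.Flat A ((P.X (p + 1) : Type u) ⧸ LinearMap.range (dO P p)) := inferInstance
  haveI : IsNoetherian A (P.X p) := isNoetherian_of_isNoetherianRing_of_finite A _
  have hsup : Module.support A (Hm (dI P p) (dO P p)) = ∅ := by
    refine Set.eq_empty_iff_forall_notMem.2 fun q hq => ?_
    haveI := subsingleton_hm_bc P q.asIdeal.ResidueField p (h q)
    haveI : Subsingleton (q.asIdeal.ResidueField ⊗[A] Hm (dI P p) (dO P p)) :=
      (LinearEquiv.ofBijective _ (CohCmpLib.canHm_bijective_of_flat (dI P p) (dO P p) (dO_dI P p)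
        q.asIdeal.ResidueField)).toEquiv.subsingleton
    exact not_nontrivial _ (((Module.mem_support_iff_nontrivial_residueField_tensorProduct q).1 hq))
  haveI := Module.support_eq_empty_iff.1 hsup
  haveI : Subsingleton (P.homology p : Type u) := (hEquiv P p).symm.toEquiv.subsingleton
  exact ModuleCat.isZero_of_subsingleton _

variable (N : ℤ) (hb : ∀ i, N < i → IsZero (P.X i))

include hP hb in
/-- The truncated complex. -/
theorem exists_truncation (d' d : ℤ)
    (hlow : ∀ p, p < d' → ∀ q : PrimeSpectrum A,
      IsZero ((CohIII.bcCx (algebraMap A q.asIdeal.ResidueField) P).homology p))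
    (hhigh : ∀ p, d < p → IsZero (P.homology p)) :
    ∃ L : CochainComplex (ModuleCat.{u} A) ℤ, (∀ i, Module.Finite A (L.X i) ∧ Module.Projective A (L.X i)) ∧
      (∀ i, i < d' ∨ d < i → IsZero (L.X i)) ∧ ((∀ p, IsZero (P.homology p)) → ∀ i, IsZero (L.X i)) ∧
      Nonempty (HomotopyEquiv P L) := by
  have hproj : ∀ i, Module.Projective A (P.X i) := fun i => by haveI := (hP i).2; infer_instance
  haveI : P.IsKProjective := Groth.Agent.DRingLib.isKProjective_of_projective P N hb hproj
  by_cases hall : ∀ p, IsZero (P.homology p)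
  · let L : CochainComplex (ModuleCat.{u} A) ℤ := HomologicalComplex.zero
    have hz : ∀ i, IsZero (L.X i) := fun i => isZero_zero _
    haveI : L.IsKProjective := Groth.Agent.DRingLib.isKProjective_of_projective L N (fun i _ => hz i) fun i => by
      haveI := ModuleCat.subsingleton_of_isZero (hz i)
      infer_instance
    haveI : QuasiIso (0 : P ⟶ L) := ⟨fun i => by
      rw [quasiIsoAt_iff_isIso_homologyMap]
      have hL : IsZero (L.homology i) :=
        (HomologicalComplex.exactAt_iff_isZero_homology _ i).1 (ShortComplex.exact_of_isZero_X₂ _ (hz i))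
      exact ⟨0, (hall i).eq_of_src _ _, hL.eq_of_src _ _⟩⟩
    refine ⟨L, fun i => ?_, fun i _ => hz i, fun _ => hz,
      Groth.Agent.TwoTermLib.HomCx.exists_homotopyEquiv (asIso (DerivedCategory.Q.map (0 : P ⟶ L)))⟩
    haveI := ModuleCat.subsingleton_of_isZero (hz i)
    exact ⟨inferInstance, inferInstance⟩
  haveI : P.IsGE d' := (CochainComplex.isGE_iff P d').2 fun i hi =>
    (HomologicalComplex.exactAt_iff_isZero_homology _ i).2 (isZero_homology_of_fibres P hP i (hlow i hi))
  let K := P.truncGE d'
  have hK : ∀ i, Module.Finite A (K.X i) ∧ Module.Projective A (K.X i) := fun i => by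
    rcases lt_trichotomy i d' with hi | rfl | hi
    · haveI := ModuleCat.subsingleton_of_isZero (CochainComplex.isZero_of_isStrictlyGE K d' i hi)
      exact ⟨inferInstance, inferInstance⟩
    · have hc := projective_coker_succ P hP (i - 1) (hlow (i - 1) (by omega))
      have key : ∀ m n, m + 1 = n → Module.Projective A ((P.X (m + 1) : Type u) ⧸ LinearMap.range (dO P m)) →
          Module.Projective A ((P.X n : Type u) ⧸ LinearMap.range (P.d m n).hom) := by
        rintro m n rfl h; exact h
      haveI := key (i - 1) i (by omega) hc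
      haveI := (hP i).1
      let e : K.X i ≅ ModuleCat.of A ((P.X i : Type u) ⧸ LinearMap.range (P.d (i - 1) i).hom) :=
        P.truncGEXIsoOpcycles i ≪≫ ShortComplex.opcyclesMapIso (P.isoSc' (i - 1) i (i + 1) (by simp) (by simp)) ≪≫
          (P.sc' (i - 1) i (i + 1)).moduleCatOpcyclesIso
      exact ⟨Module.Finite.equiv e.toLinearEquiv.symm, Module.Projective.of_equiv e.toLinearEquiv.symm⟩
    · haveI := (hP i).1
      haveI := hproj i
      exact ⟨Module.Finite.equiv (P.truncGEXIso d' i hi).toLinearEquiv.symm,
        Module.Projective.of_equiv (P.truncGEXIso d' i hi).toLinearEquiv.symm⟩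
  have hKb : ∀ i, max N d' < i → IsZero (K.X i) := fun i hi =>
    (hb i (by omega)).of_iso (P.truncGEXIso d' i (by omega))
  have hKh : ∀ i, d < i → IsZero (K.homology i) := fun i hi => by
    haveI := (quasiIsoAt_iff_isIso_homologyMap (P.πTruncGE d') i).1 inferInstance
    exact (hhigh i hi).of_iso (asIso (HomologicalComplex.homologyMap (P.πTruncGE d') i)).symm
  haveI : K.IsLE d := (CochainComplex.isLE_iff K d).2 fun i hi =>
    (HomologicalComplex.exactAt_iff_isZero_homology _ i).2 (hKh i hi)
  let L := K.truncLE d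
  obtain ⟨hZf, hZp⟩ := Groth.Agent.DRingLib.finite_projective_cycles K (max N d') hKb hK d hKh
  have hL : ∀ i, Module.Finite A (L.X i) ∧ Module.Projective A (L.X i) := fun i => by
    rcases lt_trichotomy i d with hi | rfl | hi
    · obtain ⟨h1, h2⟩ := hK i
      exact ⟨Module.Finite.equiv (K.truncLEXIso d i hi).toLinearEquiv.symm,
        Module.Projective.of_equiv (K.truncLEXIso d i hi).toLinearEquiv.symm⟩
    · let e : L.X i ≅ ModuleCat.of A (LinearMap.ker (K.d i (i + 1)).hom) :=
        K.truncLEXIsoCycles i ≪≫ ShortComplex.cyclesMapIso (K.isoSc' (i - 1) i (i + 1) (by simp) (by simp)) ≪≫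
          (K.sc' (i - 1) i (i + 1)).moduleCatCyclesIso
      exact ⟨Module.Finite.equiv e.toLinearEquiv.symm, Module.Projective.of_equiv e.toLinearEquiv.symm⟩
    · haveI := ModuleCat.subsingleton_of_isZero (CochainComplex.isZero_of_isStrictlyLE L d i hi)
      exact ⟨inferInstance, inferInstance⟩
  have hLz : ∀ i, i < d' ∨ d < i → IsZero (L.X i) := by
    intro i hi
    rcases lt_trichotomy i d with hlt | heq | hgt
    · exact (CochainComplex.isZero_of_isStrictlyGE K d' i (by omega)).of_iso (K.truncLEXIso d i hlt)
    · subst heq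
      have hz : IsZero (K.X i) := CochainComplex.isZero_of_isStrictlyGE K d' i (by omega)
      exact (IsZero.of_mono (K.iCycles i) hz).of_iso (K.truncLEXIsoCycles i)
    · exact CochainComplex.isZero_of_isStrictlyLE L d i hgt
  haveI : K.IsKProjective := Groth.Agent.DRingLib.isKProjective_of_projective K _ hKb fun i => (hK i).2
  haveI : L.IsKProjective := Groth.Agent.DRingLib.isKProjective_of_projective L d
    (fun i hi => hLz i (Or.inr hi)) fun i => (hL i).2
  exact ⟨L, hL, hLz, fun h => absurd h hall, Groth.Agent.TwoTermLib.HomCx.exists_homotopyEquiv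
    (asIso (DerivedCategory.Q.map (P.πTruncGE d')) ≪≫ (asIso (DerivedCategory.Q.map (K.ιTruncLE d))).symm)⟩

/-- base change and tensor agree on homology -/
theorem nonempty_bc_T (L : CochainComplex (ModuleCat.{u} A) ℤ) (B : Type u) [CommRing B] [Algebra A B] (i : ℤ) :
    Nonempty (((CohIII.bcCx (algebraMap A B) L).homology i : Type u) ≃+ CohIII.T L i (ModuleCat.of A B)) := by
  let D := CohIII.bcCx (algebraMap A B) L
  let e1 : Hm (dI D i) (dO D i) ≃ₗ[B] Hm ((dI L i).baseChange B) ((dO L i).baseChange B) :=
    FlatCxLib.hmCongr (FlatCxLib.extEquiv (B := B) (L.X _)) (FlatCxLib.extEquiv (B := B) (L.X i))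
      (FlatCxLib.extEquiv (B := B) (L.X (i + 1))) (FlatCxLib.extEquiv_map (L.d _ i))
      (FlatCxLib.extEquiv_map (L.d i (i + 1)))
  let T := CohIII.tensorObj L (ModuleCat.of A B)
  have hc : ∀ (k l : ℤ) (w : B ⊗[A] (L.X k : Type u)),
      TensorProduct.comm A B (L.X l) ((L.d k l).hom.baseChange B w) =
        (L.d k l).hom.rTensor B (TensorProduct.comm A B (L.X k) w) := fun k l w => by
    induction w using TensorProduct.induction_on with
    | zero => simp
    | tmul b x => simp
    | add x y hx hy => simp [hx, hy]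
  let e2 : Hm (((dI L i).baseChange B).restrictScalars A) (((dO L i).baseChange B).restrictScalars A) ≃ₗ[A]
      Hm (dI T i) (dO T i) :=
    FlatCxLib.hmCongr (TensorProduct.comm A B (L.X (i - 1))) (TensorProduct.comm A B (L.X i))
      (TensorProduct.comm A B (L.X (i + 1))) (hc _ _) (hc _ _)
  exact ⟨(hEquiv D i).symm.toAddEquiv.trans (e1.toAddEquiv.trans
    (e2.toAddEquiv.trans (hEquiv T i).toAddEquiv))⟩

end AmpTruncLib
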